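import Cfsg.Agent.Lib.Orth.Spinor
import Cfsg.Agent.Lib.Forms.Standard

/-!
# The Levi subgroup of the plus-type orthogonal group and some involutions

* `levi A` : the isometry `diag(A, A⁻ᵀ)` of `qfPlus m F`; `dick_levi` (`= 1`), `spin_levi` (`= χ(det A)`)
* `swapIso` : `x_i ↔ y_i`; `dick_swapIso` (`= (-1)^m`)
* `mem_omega_neg_pairs` : the involution negating `i` hyperbolic pairs lies in `Ω` iff `q^i % 4 = 1`
-/

set_option autoImplicit false

namespace Cfsg.Agent.OrthLevi

open Cfsg Matrix Module Cfsg.Agent.Orth Cfsg.Agent.Forms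
open QuadraticMap (polar)

variable {F : Type*} [Field F] {m : ℕ}

theorem quadFormPlus_eq_dot (v : Fin m ⊕ Fin m → F) :
    Cfsg.quadFormPlus m F v = (v ∘ Sum.inl) ⬝ᵥ (v ∘ Sum.inr) := rfl

/-- The matrix `diag(A, A⁻ᵀ)`. -/
noncomputable def leviMat (A : GL (Fin m) F) : Matrix (Fin m ⊕ Fin m) (Fin m ⊕ Fin m) F :=
  Matrix.fromBlocks (A : Matrix (Fin m) (Fin m) F) 0 0
    ((A⁻¹ : GL (Fin m) F) : Matrix (Fin m) (Fin m) F).transpose

theorem leviMat_mul (A B : GL (Fin m) F) : leviMat (A * B) = leviMat A * leviMat B := by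
  simp [leviMat, Matrix.fromBlocks_multiply, Matrix.transpose_mul]

theorem leviMat_one : leviMat (1 : GL (Fin m) F) = 1 := by
  simp [leviMat, Matrix.fromBlocks_one]

theorem leviMat_isometry (A : GL (Fin m) F) (v : Fin m ⊕ Fin m → F) :
    Cfsg.quadFormPlus m F (leviMat A *ᵥ v) = Cfsg.quadFormPlus m F v := by
  rw [quadFormPlus_eq_dot, quadFormPlus_eq_dot, leviMat, Matrix.fromBlocks_mulVec]
  simp only [Sum.elim_comp_inl, Sum.elim_comp_inr, Matrix.zero_mulVec, add_zero, zero_add]
  rw [Matrix.mulVec_transpose, dotProduct_comm, ← Matrix.dotProduct_mulVec, Matrix.mulVec_mulVec,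
    Units.inv_mul, Matrix.one_mulVec, dotProduct_comm]

/-- The isometry `diag(A, A⁻ᵀ)` of the plus-type form. -/
noncomputable def levi (A : GL (Fin m) F) : IsoGrp (qfPlus m F) :=
  ⟨⟨leviMat A, leviMat A⁻¹, by rw [← leviMat_mul, mul_inv_cancel, leviMat_one],
    by rw [← leviMat_mul, inv_mul_cancel, leviMat_one]⟩,
   fun v _ => by
    show qfPlus m F (leviMat A *ᵥ v) = qfPlus m F v
    rw [qfPlus_apply, qfPlus_apply, leviMat_isometry]⟩

theorem levi_mat (A : GL (Fin m) F) :
    ((levi A : GL (Fin m ⊕ Fin m) F) : Matrix (Fin m ⊕ Fin m) (Fin m ⊕ Fin m) F) = leviMat A := rfl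

theorem levi_mul (A B : GL (Fin m) F) : levi (A * B) = levi A * levi B :=
  Subtype.ext (Units.ext (leviMat_mul A B))

theorem levi_one : levi (1 : GL (Fin m) F) = 1 := Subtype.ext (Units.ext leviMat_one)

theorem finrank_resSpace {ι : Type} [Fintype ι] [DecidableEq ι] {Q : QuadraticForm F (ι → F)}
    (g : IsoGrp Q) :
    finrank F (resSpace g) = (((g : GL ι F) : Matrix ι ι F) - 1).rank := by
  have h : ap g - LinearMap.id = Matrix.mulVecLin (((g : GL ι F) : Matrix ι ι F) - 1) := by
    apply LinearMap.ext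
    intro v
    simp [ap_apply, Matrix.sub_mulVec]
  rw [resSpace, h]
  rfl

theorem rank_fromBlocks_diag (P R : Matrix (Fin m) (Fin m) F) :
    (Matrix.fromBlocks P 0 0 R).rank = P.rank + R.rank := by
  let e := LinearEquiv.sumArrowLequivProdArrow (Fin m) (Fin m) F F
  have h : (Matrix.fromBlocks P 0 0 R).mulVecLin
      = e.symm.toLinearMap ∘ₗ (P.mulVecLin.prodMap R.mulVecLin) ∘ₗ e.toLinearMap := by
    apply LinearMap.ext
    intro v
    funext i
    rcases i with i | i <;>
      simp [Matrix.fromBlocks_mulVec, e, LinearEquiv.sumArrowLequivProdArrow,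
        Equiv.sumArrowEquivProdArrow, Function.comp_def]
  rw [Matrix.rank, h, LinearMap.range_comp, LinearEquiv.finrank_map_eq, LinearMap.range_comp,
    LinearEquiv.range, Submodule.map_top, LinearMap.range_prodMap]
  let e2 : ((LinearMap.range P.mulVecLin).prod (LinearMap.range R.mulVecLin) :
      Submodule F ((Fin m → F) × (Fin m → F))) ≃ₗ[F]
      (LinearMap.range P.mulVecLin × LinearMap.range R.mulVecLin) :=
    { toFun := fun x => (⟨x.1.1, x.2.1⟩, ⟨x.1.2, x.2.2⟩)
      invFun := fun y => ⟨(y.1.1, y.2.1), y.1.2, y.2.2⟩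
      map_add' := fun _ _ => rfl
      map_smul' := fun _ _ => rfl
      left_inv := fun _ => rfl
      right_inv := fun _ => rfl }
  rw [e2.finrank_eq, Module.finrank_prod]
  rfl

theorem dick_levi (A : GL (Fin m) F) : dick (levi A) = 1 := by
  rw [dick, finrank_resSpace, levi_mat]
  apply Even.neg_one_pow
  have h1 : leviMat A - 1 = Matrix.fromBlocks ((A : Matrix (Fin m) (Fin m) F) - 1) 0 0
      (((A⁻¹ : GL (Fin m) F) : Matrix (Fin m) (Fin m) F).transpose - 1) := by
    rw [leviMat, ← Matrix.fromBlocks_one, sub_eq_add_neg, Matrix.fromBlocks_neg,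
      Matrix.fromBlocks_add]
    simp [sub_eq_add_neg]
  rw [h1, rank_fromBlocks_diag]
  refine ⟨((A : Matrix (Fin m) (Fin m) F) - 1).rank, ?_⟩
  congr 1
  rw [← (Matrix.transpose_one : (1 : Matrix (Fin m) (Fin m) F).transpose = 1), ← Matrix.transpose_sub,
    Matrix.rank_transpose, Matrix.transpose_one]
  have h2 : ((A⁻¹ : GL (Fin m) F) : Matrix (Fin m) (Fin m) F) - 1
      = (-((A⁻¹ : GL (Fin m) F) : Matrix (Fin m) (Fin m) F)) * ((A : Matrix (Fin m) (Fin m) F) - 1) := by
    rw [mul_sub, mul_one, neg_mul, Units.inv_mul]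
    abel
  rw [h2]
  refine Matrix.rank_mul_eq_right_of_isUnit_det _ _ ?_
  exact (Matrix.isUnit_iff_isUnit_det _).mp (Units.isUnit _).neg

theorem qfPlus_good [Fintype F] (h : Fintype.card F ≠ 2 ∨ m ≠ 2) : Good (qfPlus m F) :=
  Good.of_card (qfPlus_nondegenerate m)
    (h.imp_right (fun hm hc => hm (by simp at hc; omega)))

theorem polar_plus (u v : Fin m ⊕ Fin m → F) :
    polar ⇑(qfPlus m F) u v
      = ∑ i, (u (Sum.inl i) * v (Sum.inr i) + u (Sum.inr i) * v (Sum.inl i)) := by
  simp only [polar, qfPlus_apply, Cfsg.quadFormPlus, ← Finset.sum_sub_distrib]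
  exact Finset.sum_congr rfl fun i _ => by simp; ring

open Classical in
theorem spin_levi_single [Fintype F] (i : Fin m) (A : GL (Fin m) F) (d : F)
    (hA : (A : Matrix (Fin m) (Fin m) F) = Matrix.diagonal (Function.update 1 i d)) :
    spin (levi A) = quadraticChar F d := by
  by_cases hd : d = 1
  · have : A = 1 := Units.ext (by rw [hA, hd]; simp)
    rw [this, levi_one, spin_one, hd, map_one]
  have hd0 : d ≠ 0 := by
    intro h
    have h1 := ((Matrix.isUnit_iff_isUnit_det _).mp A.isUnit).ne_zero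
    rw [hA, Matrix.det_diagonal, Finset.prod_update_of_mem (Finset.mem_univ _), h, zero_mul] at h1
    exact h1 rfl
  have hAi : ((A⁻¹ : GL (Fin m) F) : Matrix (Fin m) (Fin m) F)
      = Matrix.diagonal (Function.update 1 i d⁻¹) := by
    have h1 : (Matrix.diagonal (Function.update 1 i d⁻¹)) * (A : Matrix (Fin m) (Fin m) F) = 1 := by
      rw [hA, Matrix.diagonal_mul_diagonal, ← Matrix.diagonal_one]
      congr 1
      funext j
      by_cases hj : j = i <;> simp [Function.update_apply, hj, hd0]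
    calc ((A⁻¹ : GL (Fin m) F) : Matrix (Fin m) (Fin m) F)
        = Matrix.diagonal (Function.update 1 i d⁻¹) * (A : Matrix (Fin m) (Fin m) F)
          * ((A⁻¹ : GL (Fin m) F) : Matrix (Fin m) (Fin m) F) := by rw [h1, one_mul]
      _ = _ := by rw [mul_assoc, Units.mul_inv, mul_one]
  have hsub : ∀ v j, (ap (levi A) v - v) j =
      if j = Sum.inl i then (d - 1) * v j else if j = Sum.inr i then (d⁻¹ - 1) * v j else 0 := by
    intro v j
    rw [Pi.sub_apply, ap_apply, levi_mat, leviMat, hA, hAi, Matrix.fromBlocks_mulVec]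
    rcases j with j | j <;> by_cases hj : j = i <;>
      simp [Matrix.mulVec_diagonal, Function.update_apply, hj] <;> ring
  have hd1 : d - 1 ≠ 0 := sub_ne_zero.mpr hd
  have hd2 : d⁻¹ - 1 ≠ 0 := sub_ne_zero.mpr (by simpa using hd)
  let w : Fin 2 → (Fin m ⊕ Fin m → F) := ![Pi.single (Sum.inl i) 1, Pi.single (Sum.inr i) 1]
  let x : Fin 2 → (Fin m ⊕ Fin m → F) :=
    ![Pi.single (Sum.inl i) (d - 1)⁻¹, Pi.single (Sum.inr i) (d⁻¹ - 1)⁻¹]
  have hx : ∀ a, ap (levi A) (x a) - x a = w a := by
    intro a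
    funext j
    rw [hsub]
    fin_cases a <;> rcases j with j | j <;> by_cases hj : j = i <;>
      simp [x, w, hj, hd1, hd2]
  have hind : LinearIndependent F w := by
    rw [LinearIndependent.pair_iff]
    intro s t hst
    exact ⟨by simpa using congrFun hst (Sum.inl i), by simpa using congrFun hst (Sum.inr i)⟩
  have hspan : Submodule.span F (Set.range w) = resSpace (levi A) := by
    apply le_antisymm
    · rw [Submodule.span_le]
      rintro _ ⟨a, rfl⟩
      exact mem_resSpace.mpr ⟨x a, hx a⟩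
    · intro z hz
      obtain ⟨v, rfl⟩ := mem_resSpace.mp hz
      rw [Submodule.mem_span_range_iff_exists_fun]
      refine ⟨![(d - 1) * v (Sum.inl i), (d⁻¹ - 1) * v (Sum.inr i)], ?_⟩
      funext j
      rw [hsub, Fin.sum_univ_two]
      rcases j with j | j <;> by_cases hj : j = i <;> simp [w, hj]
  rw [spin_eq w x hind hspan hx, Matrix.det_fin_two]
  have e : ∀ (k l : Fin m ⊕ Fin m) (a b : F), polar ⇑(qfPlus m F) (Pi.single k a) (Pi.single l b)
      = ∑ j, (((Pi.single k a : Fin m ⊕ Fin m → F) (Sum.inl j)) * ((Pi.single l b : Fin m ⊕ Fin m → F) (Sum.inr j))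
        + ((Pi.single k a : Fin m ⊕ Fin m → F) (Sum.inr j)) * ((Pi.single l b : Fin m ⊕ Fin m → F) (Sum.inl j))) :=
    fun k l a b => polar_plus _ _
  simp only [wallMat, Matrix.of_apply, x, w, Matrix.cons_val_zero, Matrix.cons_val_one, e]
  simp only [Pi.single_apply, reduceCtorEq, if_false, Sum.inl.injEq, Sum.inr.injEq, ite_mul, one_mul,
    zero_mul, mul_zero, add_zero, zero_add, Finset.sum_ite_eq', Finset.mem_univ, if_true,
    Finset.sum_const_zero]
  rw [show (-1 : F) ^ 2 * (0 - (d⁻¹ - 1)⁻¹ * (d - 1)⁻¹) = ((d - 1)⁻¹) ^ 2 * d by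
    have hd3 : d⁻¹ - 1 = (1 - d) / d := by field_simp
    have hd4 : (1 : F) - d ≠ 0 := sub_ne_zero.mpr (Ne.symm hd)
    rw [hd3]; field_simp; ring]
  rw [map_mul, quadraticChar_sq_one' (inv_ne_zero hd1), one_mul]

open Classical in
theorem spin_levi [Fintype F] (h : Fintype.card F ≠ 2 ∨ m ≠ 2) (A : GL (Fin m) F) :
    spin (levi A) = quadraticChar F (A : Matrix (Fin m) (Fin m) F).det := by
  have hG := qfPlus_good (F := F) h
  suffices H : ∀ M : Matrix (Fin m) (Fin m) F, M.det ≠ 0 → ∀ B : GL (Fin m) F,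
      (B : Matrix (Fin m) (Fin m) F) = M → spin (levi B) = quadraticChar F M.det by
    exact H _ ((Matrix.isUnit_iff_isUnit_det _).mp A.isUnit).ne_zero A rfl
  intro M hM
  refine Matrix.diagonal_transvection_induction_of_det_ne_zero
    (fun M => ∀ B : GL (Fin m) F, (B : Matrix (Fin m) (Fin m) F) = M → spin (levi B) = quadraticChar F M.det)
    M hM ?_ ?_ ?_
  · intro D hD
    suffices H : ∀ (s : Finset (Fin m)) (B : GL (Fin m) F),
        (B : Matrix (Fin m) (Fin m) F) = Matrix.diagonal (fun j => if j ∈ s then D j else 1) →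
        spin (levi B) = quadraticChar F (∏ j ∈ s, D j) by
      intro B hB
      rw [Matrix.det_diagonal]
      exact H Finset.univ B (by simpa using hB)
    rw [Matrix.det_diagonal, Finset.prod_ne_zero_iff] at hD
    intro s
    induction s using Finset.induction_on with
    | empty =>
      intro B hB
      have : B = 1 := Units.ext (by simpa using hB)
      simp [this, levi_one, spin_one]
    | insert a s ha ih =>
      intro B hB
      have hu : IsUnit (Matrix.diagonal (Function.update (1 : Fin m → F) a (D a))) := by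
        rw [Matrix.isUnit_iff_isUnit_det, Matrix.det_diagonal, isUnit_iff_ne_zero, Finset.prod_ne_zero_iff]
        intro j _
        by_cases hj : j = a <;> simp [Function.update_apply, hj, hD a (Finset.mem_univ _)]
      set B₁ := hu.unit
      have hB' : ((B₁⁻¹ * B : GL (Fin m) F) : Matrix (Fin m) (Fin m) F)
          = Matrix.diagonal (fun j => if j ∈ s then D j else 1) := by
        rw [Units.val_mul, hB]
        apply hu.mul_left_cancel
        rw [← mul_assoc, show (Matrix.diagonal (Function.update (1 : Fin m → F) a (D a)))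
          = (B₁ : Matrix (Fin m) (Fin m) F) from (IsUnit.unit_spec hu).symm, Units.mul_inv, one_mul,
          IsUnit.unit_spec, Matrix.diagonal_mul_diagonal]
        congr 1
        funext j
        by_cases hj : j = a <;> simp [Function.update_apply, hj, ha]
      have h1 := spin_levi_single a B₁ (D a) (IsUnit.unit_spec hu)
      have h2 := ih _ hB'
      rw [show B = B₁ * (B₁⁻¹ * B) by group, levi_mul, spin_mul hG, h1, h2, Finset.prod_insert ha,
        map_mul]
  · intro t B hB
    rw [Matrix.TransvectionStruct.det, map_one]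
    by_cases h2 : (2 : F) = 0
    · exact spin_eq_one_of_two hG h2 _
    haveI : NeZero (2 : F) := ⟨h2⟩
    have hu : IsUnit (Matrix.transvection t.i t.j (t.c / 2)) := by
      rw [Matrix.isUnit_iff_isUnit_det, Matrix.det_transvection_of_ne _ _ t.hij]
      exact isUnit_one
    have hsq : B = hu.unit * hu.unit := by
      apply Units.ext
      rw [hB, Units.val_mul, IsUnit.unit_spec, Matrix.transvection_mul_transvection_same _ _ t.hij,
        Matrix.TransvectionStruct.toMatrix, add_halves]
    rw [hsq, levi_mul, spin_mul hG]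
    rcases spin_eq_or hG (levi hu.unit) with h | h <;> simp [h]
  · intro P R hP hR ihP ihR B hB
    have hPu : IsUnit P := (Matrix.isUnit_iff_isUnit_det P).mpr (isUnit_iff_ne_zero.mpr hP)
    have hRu : IsUnit R := (Matrix.isUnit_iff_isUnit_det R).mpr (isUnit_iff_ne_zero.mpr hR)
    have : B = hPu.unit * hRu.unit := Units.ext (by simp [hB])
    rw [this, levi_mul, spin_mul hG, ihP _ (IsUnit.unit_spec _), ihR _ (IsUnit.unit_spec _),
      Matrix.det_mul, map_mul]

theorem levi_mem_omega_iff [Fintype F] (h : Fintype.card F ≠ 2 ∨ m ≠ 2) (A : GL (Fin m) F) :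
    levi A ∈ Cfsg.Omega F ⇑(qfPlus m F) ↔ IsSquare (A : Matrix (Fin m) (Fin m) F).det := by
  classical
  rw [mem_omega_iff (qfPlus_good h), spin_levi h, dick_levi]
  have hd := quadraticChar_one_iff_isSquare ((Matrix.isUnit_iff_isUnit_det _).mp A.isUnit).ne_zero
  exact ⟨fun h => hd.mp h.2, fun h => ⟨rfl, hd.mpr h⟩⟩

/-- The matrix interchanging `x_i` and `y_i`. -/
def swapMat (m : ℕ) (F : Type*) [Field F] : Matrix (Fin m ⊕ Fin m) (Fin m ⊕ Fin m) F :=
  Matrix.fromBlocks 0 1 1 0

theorem swapMat_sq : swapMat m F * swapMat m F = 1 := by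
  simp [swapMat, Matrix.fromBlocks_multiply, Matrix.fromBlocks_one]

/-- The isometry interchanging `x_i` and `y_i`. -/
def swapIso (m : ℕ) (F : Type*) [Field F] : IsoGrp (qfPlus m F) :=
  ⟨⟨swapMat m F, swapMat m F, swapMat_sq, swapMat_sq⟩,
   fun v _ => by
    show qfPlus m F (swapMat m F *ᵥ v) = qfPlus m F v
    rw [qfPlus_apply, qfPlus_apply, quadFormPlus_eq_dot, quadFormPlus_eq_dot, swapMat,
      Matrix.fromBlocks_mulVec]
    simp only [Sum.elim_comp_inl, Sum.elim_comp_inr, Matrix.zero_mulVec, Matrix.one_mulVec, add_zero,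
      zero_add]
    exact dotProduct_comm _ _⟩

theorem dick_swapIso : dick (swapIso m F) = (-1) ^ m := by
  rw [dick]
  congr 1
  let e : (Fin m → F) →ₗ[F] (Fin m ⊕ Fin m → F) :=
    { toFun := fun a => Sum.elim a (-a)
      map_add' := fun a b => by funext j; cases j <;> simp [add_comm]
      map_smul' := fun c a => by funext j; cases j <;> simp }
  have he : Function.Injective e := fun a b h => funext fun j => congrFun h (Sum.inl j)
  have hr : resSpace (swapIso m F) = LinearMap.range e := by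
    ext z
    rw [mem_resSpace, LinearMap.mem_range]
    have hap : ∀ v, ap (swapIso m F) v = Sum.elim (v ∘ Sum.inr) (v ∘ Sum.inl) := by
      intro v
      rw [ap_apply]
      show swapMat m F *ᵥ v = _
      rw [swapMat, Matrix.fromBlocks_mulVec]
      simp
    constructor
    · rintro ⟨v, rfl⟩
      refine ⟨fun j => v (Sum.inr j) - v (Sum.inl j), ?_⟩
      rw [hap]
      funext j
      cases j <;> simp [e]
    · rintro ⟨a, rfl⟩
      refine ⟨Sum.elim 0 a, ?_⟩
      rw [hap]
      funext j
      cases j <;> simp [e]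
  rw [hr, LinearMap.finrank_range_of_inj he, Module.finrank_fin_fun]

theorem isSquare_neg_one_pow [Fintype F] (i : ℕ) {q : ℕ} (hF : Fintype.card F = q) (hq : Odd q) :
    IsSquare ((-1 : F) ^ i) ↔ q ^ i % 4 = 1 := by
  have h13 : q % 4 = 1 ∨ q % 4 = 3 := by
    obtain ⟨k, hk⟩ := hq; omega
  rcases Nat.even_or_odd i with ⟨k, hk⟩ | ⟨k, hk⟩
  · refine iff_of_true ?_ ?_
    · exact ⟨(-1) ^ k, by rw [hk, pow_add]⟩
    · rw [hk, ← two_mul, pow_mul, Nat.pow_mod, Nat.pow_mod q]
      rcases h13 with h | h <;> rw [h] <;> simp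
  · subst hk
    rw [pow_succ, pow_mul, neg_one_sq, one_pow, one_mul, FiniteField.isSquare_neg_one_iff, hF,
      pow_succ, pow_mul, Nat.mul_mod, Nat.pow_mod, Nat.pow_mod q]
    rcases h13 with h | h <;> rw [h] <;> simp

open Classical in
/-- An involution negating `i` hyperbolic pairs and fixing their orthogonal coordinates. -/
theorem mem_omega_neg_pairs [Fintype F] {ι : Type} [Fintype ι] [DecidableEq ι] {q : ℕ}
    (hF : Fintype.card F = q) (hq : Odd q) {Q : QuadraticForm F (ι → F)}
    (hQ : Q.polarBilin.Nondegenerate) {i : ℕ} (σ : Fin i ⊕ Fin i → ι) (hσ : Function.Injective σ)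
    (hgram : ∀ a b, polar ⇑Q (Pi.single (σ a) 1) (Pi.single (σ b) 1)
      = (Matrix.fromBlocks 0 1 1 0 : Matrix (Fin i ⊕ Fin i) (Fin i ⊕ Fin i) F) a b)
    (g : IsoGrp Q)
    (hg : ((g : GL ι F) : Matrix ι ι F) = Matrix.diagonal (fun k => if k ∈ Set.range σ then -1 else 1)) :
    g ∈ Cfsg.Omega F ⇑Q ↔ q ^ i % 4 = 1 := by
  have h2 : (2 : F) ≠ 0 := by
    intro h
    have h' : ringChar F = 2 := CharP.ringChar_of_prime_eq_zero Nat.prime_two (by exact_mod_cast h)
    have := FiniteField.even_card_of_char_two h'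
    rw [hF] at this
    exact Nat.not_even_iff_odd.mpr hq (Nat.even_iff.mpr this)
  have hsub : ∀ v j, (ap g v - v) j = if j ∈ Set.range σ then -2 * v j else 0 := by
    intro v j
    rw [Pi.sub_apply, ap_apply, hg, Matrix.mulVec_diagonal]
    split <;> ring
  let E : Fin (i + i) → Fin i ⊕ Fin i := finSumFinEquiv.symm
  let w : Fin (i + i) → ι → F := fun a => Pi.single (σ (E a)) 1
  let x : Fin (i + i) → ι → F := fun a => (-2 : F)⁻¹ • Pi.single (σ (E a)) 1
  have hx : ∀ a, ap g (x a) - x a = w a := by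
    intro a
    funext j
    rw [hsub]
    by_cases hj : j = σ (E a)
    · subst hj
      simp [x, w, h2]
    · simp [x, w, hj]
  have hE : Function.Injective (σ ∘ E) := hσ.comp finSumFinEquiv.symm.injective
  have hw : w = (Pi.basisFun F ι) ∘ (σ ∘ E) := by
    funext a
    simp [w]
  have hind : LinearIndependent F w := by
    rw [hw]
    exact (Pi.basisFun F ι).linearIndependent.comp _ hE
  have hspan : Submodule.span F (Set.range w) = resSpace g := by
    apply le_antisymm
    · rw [Submodule.span_le]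
      rintro _ ⟨a, rfl⟩
      exact mem_resSpace.mpr ⟨x a, hx a⟩
    · intro z hz
      obtain ⟨v, rfl⟩ := mem_resSpace.mp hz
      rw [Submodule.mem_span_range_iff_exists_fun]
      refine ⟨fun a => -2 * v (σ (E a)), ?_⟩
      funext j
      rw [hsub, Finset.sum_apply]
      by_cases hj : j ∈ Set.range σ
      · obtain ⟨b, rfl⟩ := hj
        rw [if_pos ⟨b, rfl⟩, Finset.sum_eq_single (finSumFinEquiv b)]
        · simp [w, E]
        · intro a _ ha
          have : σ b ≠ σ (E a) := fun h => ha (by rw [hσ h]; simp [E])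
          simp [w, this]
        · simp
      · rw [if_neg hj]
        refine Finset.sum_eq_zero fun a _ => ?_
        have : j ≠ σ (E a) := fun h => hj ⟨_, h.symm⟩
        simp [w, this]
  have hdick : dick g = 1 := by
    rw [dick, ← hspan, finrank_span_eq_card hind, Fintype.card_fin]
    exact (Even.add_self i).neg_one_pow
  have hwall : wallMat Q w x = (-2 : F)⁻¹ •
      ((Matrix.fromBlocks 0 1 1 0 : Matrix (Fin i ⊕ Fin i) (Fin i ⊕ Fin i) F).submatrix
        finSumFinEquiv.symm finSumFinEquiv.symm) := by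
    ext a b
    simp only [wallMat, Matrix.of_apply, w, x, pl_smul_right, hgram, Matrix.smul_apply,
      Matrix.submatrix_apply, smul_eq_mul, E]
  have hdet : (Matrix.fromBlocks 0 1 1 0 : Matrix (Fin i ⊕ Fin i) (Fin i ⊕ Fin i) F).det = (-1) ^ i := by
    have hdec : (Matrix.fromBlocks 0 1 1 0 : Matrix (Fin i ⊕ Fin i) (Fin i ⊕ Fin i) F)
        = Matrix.fromBlocks 1 0 0 (-1) * (Matrix.fromBlocks 1 1 0 1 *
          Matrix.fromBlocks 1 0 (-1) 1 * Matrix.fromBlocks 1 1 0 1) := by
      simp [Matrix.fromBlocks_multiply]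
    rw [hdec]
    simp [Matrix.det_neg]
  rw [mem_omega_iff (Good.of_two_ne_zero hQ h2), spin_eq w x hind hspan hx, hwall, Matrix.det_smul,
    Matrix.det_submatrix_equiv_self, hdet, Fintype.card_fin, ← mul_assoc, ← mul_pow,
    show ((-1 : F) * (-2)⁻¹) ^ (i + i) = (((-1 : F) * (-2)⁻¹) ^ i) ^ 2 by rw [← pow_mul, mul_two],
    map_mul, quadraticChar_sq_one' (pow_ne_zero _ (mul_ne_zero (by simp) (inv_ne_zero (neg_ne_zero.mpr h2)))),
    one_mul, quadraticChar_one_iff_isSquare (pow_ne_zero _ (neg_ne_zero.mpr one_ne_zero)),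
    isSquare_neg_one_pow i hF hq]
  simp [hdick]

end Cfsg.Agent.OrthLevi
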